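import Groth.Agent.NonAbLib.LevelNewton.Solve

/-!
# A root over `A[1/t]` from a root over `A'[1/t]` when `A/t^m = A'/t^m`
-/

universe u

namespace Groth.Agent.NonAbLib.LevelNewton

open Scale MvPolynomial

theorem exists_lower {κ : Type*} [Finite κ] (g : κ → ℤ) : ∃ b ≤ 0, ∀ i, b ≤ g i := by
  cases nonempty_fintype κ
  refine ⟨-∑ i, |g i|, neg_nonpos.2 (Finset.sum_nonneg fun i _ => abs_nonneg _), fun i => ?_⟩
  have h := Finset.single_le_sum (f := fun i => |g i|) (fun i _ => abs_nonneg _) (Finset.mem_univ i)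
  have h' := neg_abs_le (g i)
  omega

theorem exists_upper {κ : Type*} [Finite κ] (g : κ → ℤ) : ∃ K : ℤ, ∀ i, g i ≤ K := by
  obtain ⟨b, -, hb⟩ := exists_lower fun i => -g i
  exact ⟨-b, fun i => by have := hb i; omega⟩

theorem exists_root_near {A R R' : Type u} [CommRing A] [CommRing R] [CommRing R'] [Algebra R R'] (t : A)
    [HenselianRing A (Ideal.span {t})] (ι : A →+* R) (ht : IsUnit (ι t)) (σ' : Scale R')
    (hmap : ∀ i r, (Scale.ofHom ι t ht).Lev i r → σ'.Lev i (algebraMap R R' r))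
    (htr : ∀ i r, σ'.Lev i (algebraMap R R' r) → (Scale.ofHom ι t ht).Lev i r)
    (happ : ∀ (r' : R') (k : ℤ), ∃ r : R, σ'.Lev k (algebraMap R R' r - r'))
    (hex : ∀ r' : R', ∃ i, σ'.Lev i r')
    {n m : ℕ} (f : Fin m → MvPolynomial (Fin n) R) (M : Matrix (Fin n) (Fin m) (MvPolynomial (Fin n) R))
    (Q : Matrix (Fin m) (Fin m) (MvPolynomial (Fin n) R))
    (hrel : f = ((Matrix.of fun j i => pderiv i (f j)) * M + Q).mulVec f)
    (x' : Fin n → R') (hf : ∀ j, aeval x' (f j) = 0) (hQ : ∀ j k, aeval x' (Q j k) = 0) (N : ℤ) :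
    ∃ x : Fin n → R, (∀ j, aeval x (f j) = 0) ∧ ∀ i, σ'.Lev N (algebraMap R R' (x i) - x' i) := by
  classical
  obtain ⟨σ, hσ⟩ : ∃ σ, σ = Scale.ofHom ι t ht := ⟨_, rfl⟩
  rw [← hσ] at hmap htr
  obtain ⟨J, hJ⟩ : ∃ J : Matrix (Fin m) (Fin n) (MvPolynomial (Fin n) R),
    J = Matrix.of fun j i => pderiv i (f j) := ⟨_, rfl⟩
  rw [← hJ] at hrel
  obtain ⟨P, hP⟩ : ∃ P, P = J * M + Q := ⟨_, rfl⟩
  rw [← hP] at hrel
  -- the approximate projector is a projector at `x'`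
  obtain ⟨a', ha'⟩ : ∃ a', a' = P.map (aeval x') := ⟨_, rfl⟩
  have ha'JM : a' = J.map (aeval x') * M.map (aeval x') := by
    rw [ha', hP, Matrix.map_add _ (map_add _), Matrix.map_mul,
      show Q.map (aeval x') = 0 from Matrix.ext hQ, add_zero]
  have hJ' : a' * J.map (aeval x') = J.map (aeval x') := by
    ext j l
    have h := congrArg (fun p => aeval x' (pderiv l p)) (congrFun hrel j)
    simp only [Matrix.mulVec, dotProduct, map_sum, Derivation.leibniz, smul_eq_mul, map_add, map_mul, hf,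
      zero_mul, add_zero] at h
    simpa [Matrix.mul_apply, ha', hJ] using h.symm
  have hidem' : a' * a' = a' := by
    conv_lhs => arg 2; rw [ha'JM]
    rw [← Matrix.mul_assoc, hJ', ← ha'JM]
  -- continuity
  have hexR : ∀ r : R, ∃ i, σ.Lev i r := fun r => (hex (algebraMap R R' r)).imp fun i h => htr i r h
  choose bx hbx using fun i => hex (x' i)
  obtain ⟨b, -, hb⟩ := exists_lower bx
  have hx' : ∀ i, σ'.Lev b (x' i) := fun i => (hbx i).anti (hb i)
  have near : ∀ {μ ν : ℕ} (g : Matrix (Fin μ) (Fin ν) (MvPolynomial (Fin n) R)) (k : ℤ), ∃ K, ∀ x : Fin n → R,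
      (∀ i, σ'.Lev K (algebraMap R R' (x i) - x' i)) →
        σ'.MLev k ((g.map (aeval x)).map (algebraMap R R') - g.map (aeval x')) := by
    intro μ ν g k
    choose K hK using fun q : Fin μ × Fin ν =>
      continuous_at_bounded (σ := σ') (fun r => hex (algebraMap R R' r)) (g q.1 q.2) b k
    obtain ⟨K', hK'⟩ := exists_upper K
    refine ⟨K', fun x hx i j => ?_⟩
    have h := hK (i, j) x' (fun i => algebraMap R R' (x i)) hx' fun l => (hx l).anti (hK' (i, j))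
    simp only [Matrix.sub_apply, Matrix.map_apply]
    rwa [← aeval_algebraMap_apply]
  have nearR : ∀ {μ ν : ℕ} (g : Matrix (Fin μ) (Fin ν) (MvPolynomial (Fin n) R)) (k : ℤ)
      (x : Fin n → R), g.map (aeval x') = 0 →
      σ'.MLev k ((g.map (aeval x)).map (algebraMap R R') - g.map (aeval x')) →
      σ.MLev k (g.map (aeval x)) := by
    intro μ ν g k x h0 h i j
    have := h i j
    rw [h0, sub_zero] at this
    exact htr _ _ this
  -- constants
  choose ga hga using fun q : Fin m × Fin m => hex (a' q.1 q.2)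
  obtain ⟨ca, hca0, hca'⟩ := exists_lower ga
  have hca : σ'.MLev ca a' := fun i j => (hga (i, j)).anti (hca' (i, j))
  choose gM hgM using fun q : Fin n × Fin m => hex (M.map (aeval x') q.1 q.2)
  obtain ⟨cM, hcM0, hcM'⟩ := exists_lower gM
  have hcM : σ'.MLev cM (M.map (aeval x')) := fun i j => (hgM (i, j)).anti (hcM' (i, j))
  let ιW : MvPolynomial (Fin m) A →+* MvPolynomial (Fin m) R := MvPolynomial.map ι
  have htW : IsUnit (ιW (C t)) := by
    show IsUnit (MvPolynomial.map ι (C t))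
    rw [map_C]; exact ht.map C
  obtain ⟨σW, hσW⟩ : ∃ σW, σW = Scale.ofHom ιW (C t) htW := ⟨_, rfl⟩
  have hOW : ∀ r ∈ σ.O, C r ∈ σW.O := by
    intro r hr
    rw [hσ] at hr
    obtain ⟨y, rfl⟩ := hr
    rw [hσW]
    exact ⟨C y, map_C ι y⟩
  have hτW : C (σ.τ : R) = (σW.τ : MvPolynomial (Fin m) R) := by
    rw [hσ, hσW]; exact (map_C ι t).symm
  have levC : ∀ {i : ℤ} {r : R}, σ.Lev i r → σW.Lev i (C r) := fun h => h.map hOW hτW
  have levX : ∀ j, σW.Lev 0 (X j) := fun j => by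
    rw [lev_zero_iff, hσW]; exact ⟨X j, map_X ι j⟩
  choose cT hT using fun j => taylor (σ := σW)
    (fun r => (hexR r).imp fun i h => (levC h : σW.Lev i (algebraMap R (MvPolynomial (Fin m) R) r))) (f j)
    (min b cM)
  obtain ⟨c, -, hc⟩ := exists_lower cT
  obtain ⟨K₀', hK₀'⟩ := near P 1
  obtain ⟨K₀, hN, hK₀⟩ : ∃ K₀, N ≤ K₀ ∧ ∀ y : Fin n → R, (∀ i, σ'.Lev K₀ (algebraMap R R' (y i) - x' i)) →
      σ'.MLev 1 ((P.map (aeval y)).map (algebraMap R R') - P.map (aeval x')) :=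
    ⟨max K₀' N, le_max_right _ _, fun y hy => hK₀' y fun i => (hy i).anti (le_max_left _ _)⟩
  obtain ⟨s, hs0, hs1, hs2⟩ : ∃ s : ℤ, 0 ≤ s ∧ 1 - ca - c ≤ s ∧ K₀ - cM ≤ s :=
    ⟨max 0 (max (1 - ca - c) (K₀ - cM)), le_max_left _ _, (le_max_left _ _).trans (le_max_right _ _),
      (le_max_right _ _).trans (le_max_right _ _)⟩
  obtain ⟨k, hk⟩ : ∃ k : ℕ, (k : ℤ) = 1 - 2 * ca := ⟨(1 - 2 * ca).toNat, Int.toNat_of_nonneg (by omega)⟩
  obtain ⟨K₁, hK₁⟩ := near (P * P - P) k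
  obtain ⟨K₂, hK₂⟩ := near (Matrix.of fun (j : Fin m) (_ : Fin 1) => f j) (s + 1 - ca)
  obtain ⟨K₃, hK₃⟩ := near Q (1 - ca)
  obtain ⟨K₄, hK₄⟩ := near P ca
  obtain ⟨K₅, hK₅⟩ := near M cM
  obtain ⟨K, hK⟩ := exists_upper ![K₀, K₁, K₂, K₃, K₄, K₅, b]
  choose x₀ hx₀ using fun i => happ (x' i) K
  have hle : ∀ q : Fin 7, ∀ i, σ'.Lev (![K₀, K₁, K₂, K₃, K₄, K₅, b] q) (algebraMap R R' (x₀ i) - x' i) :=
    fun q i => (hx₀ i).anti (hK q)
  -- bounds at `x₀`
  have hx₀b : ∀ i, σ.Lev b (x₀ i) := fun i => htr _ _ (by simpa using (hle 6 i).add (hx' i))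
  obtain ⟨a, ha⟩ : ∃ a, a = P.map (aeval x₀) := ⟨_, rfl⟩
  obtain ⟨M₀, hM₀⟩ : ∃ M₀, M₀ = M.map (aeval x₀) := ⟨_, rfl⟩
  obtain ⟨Q₀, hQ₀⟩ : ∃ Q₀, Q₀ = Q.map (aeval x₀) := ⟨_, rfl⟩
  have hacb : σ.MLev ca a := fun i j => htr _ _ (by
    have h := (hK₄ x₀ (hle 4) i j).add (hca i j)
    simpa [ha, ha'] using h)
  have hMcb : σ.MLev cM M₀ := fun i j => htr _ _ (by
    have h := (hK₅ x₀ (hle 5) i j).add (hcM i j)
    simpa [hM₀] using h)
  have hsq : σ.MLev k (a * a - a) := by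
    have hP0 : (P * P - P).map (aeval x') = 0 := by
      rw [Matrix.map_sub _ (map_sub _), Matrix.map_mul, ← ha', hidem', sub_self]
    have h := nearR _ k x₀ hP0 (hK₁ x₀ (hle 1))
    rwa [Matrix.map_sub _ (map_sub _), Matrix.map_mul, ← ha] at h
  have hf0 : ∀ j, σ.Lev (s + 1 - ca) (aeval x₀ (f j)) := fun j =>
    nearR _ _ x₀ (Matrix.ext fun i _ => hf i) (hK₂ x₀ (hle 2)) j 0
  have hQ0 : σ.MLev (1 - ca) Q₀ := hQ₀ ▸ nearR _ _ x₀ (Matrix.ext hQ) (hK₃ x₀ (hle 3))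
  subst hσ
  -- the exact projector
  obtain ⟨e, U, hee, hU, heU⟩ := exists_idem t ι ht a (k := k) (by omega) hsq
  have hea : (Scale.ofHom ι t ht).MLev (ca + k) (e - a) := by
    rw [heU, add_sub_cancel_left]
    exact MLev.mul (((mlev_one hca0)).sub (hacb.add hacb)) hU le_rfl
  have hecb : (Scale.ofHom ι t ht).MLev ca e := by
    have := hacb.add (hea.anti (show ca ≤ ca + k by omega))
    rwa [add_sub_cancel] at this
  obtain ⟨J₀, hJ₀⟩ : ∃ J₀, J₀ = J.map (aeval x₀) := ⟨_, rfl⟩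
  have haJM : a = J₀ * M₀ + Q₀ := by
    rw [ha, hP, hJ₀, hM₀, hQ₀, Matrix.map_add _ (map_add _), Matrix.map_mul]
  have hlin : (Scale.ofHom ι t ht).MLev 1 (e * (J₀ * M₀) - e) := by
    have h : e * (J₀ * M₀) - e = -(e * (e - a)) - e * Q₀ := by
      rw [haJM, mul_sub, mul_add, hee]; abel
    rw [h]
    intro i j
    exact ((hecb.mul hea (show (1 : ℤ) ≤ ca + (ca + k) by omega) i j).neg).sub
      (hecb.mul hQ0 (show (1 : ℤ) ≤ ca + (1 - ca) by omega) i j)
  -- the substitution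
  obtain ⟨T, hTdef⟩ : ∃ T, T = ((σW.τ ^ s : (MvPolynomial (Fin m) R)ˣ) : MvPolynomial (Fin m) R) := ⟨_, rfl⟩
  obtain ⟨T', hT'⟩ : ∃ T', T' = ((σW.τ ^ (-s) : (MvPolynomial (Fin m) R)ˣ) : MvPolynomial (Fin m) R) := ⟨_, rfl⟩
  have hTT : T' * T = 1 := by rw [hTdef, hT', ← Units.val_mul, ← zpow_add, neg_add_cancel, zpow_zero, Units.val_one]
  obtain ⟨l, hl⟩ : ∃ l : Fin n → MvPolynomial (Fin m) R, l = (M₀.map C).mulVec X := ⟨_, rfl⟩
  have hllev : ∀ i, σW.Lev (min b cM) (l i) := fun i => by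
    rw [hl]; exact lev_sum fun j _ => (levC (hMcb i j)).mul' (levX j) (by simp)
  have hexp := fun j => hT j (fun i => C (x₀ i)) l T (fun i => levC ((hx₀b i).anti (min_le_left _ _))) hllev
    (hTdef ▸ (σW.lev_zpow s).anti hs0)
  choose H hH hTay using fun j => (hexp j).2.2
  obtain ⟨ξ, hξ⟩ : ∃ ξ : Fin n → MvPolynomial (Fin m) R, ξ = fun i => C (x₀ i) + T * l i := ⟨_, rfl⟩
  obtain ⟨G, hG⟩ : ∃ G : Fin m → MvPolynomial (Fin m) R,
    G = T' • (e.map C).mulVec (fun j => aeval ξ (f j)) + X - (e.map C).mulVec X := ⟨_, rfl⟩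
  have haev : ∀ p : MvPolynomial (Fin n) R, aeval (fun i => (C (x₀ i) : MvPolynomial (Fin m) R)) p = C (aeval x₀ p) := fun p =>
    aeval_algebraMap_apply (B := MvPolynomial (Fin m) R) x₀ p
  have hsplit : G - X = T' • (e.map C).mulVec (fun j => C (aeval x₀ (f j))) +
      ((e * (J₀ * M₀) - e).map C).mulVec X + T • (e.map C).mulVec H := by
    have hFv : (fun j => aeval ξ (f j)) = (fun j => C (aeval x₀ (f j))) +
        T • ((J₀ * M₀).map C).mulVec X + (T ^ 2) • H := by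
      funext j
      rw [hξ, hTay j, haev]
      simp only [Pi.add_apply, Pi.smul_apply, smul_eq_mul]
      rw [Matrix.map_mul, ← Matrix.mulVec_mulVec, ← hl]
      simp only [Matrix.mulVec, dotProduct, Matrix.map_apply, hJ₀, hJ, Matrix.of_apply, haev]
    rw [hG, hFv, Matrix.mulVec_add, Matrix.mulVec_add, Matrix.mulVec_smul, Matrix.mulVec_smul,
      Matrix.map_sub _ (map_sub _), Matrix.sub_mulVec]
    simp only [Matrix.map_mul, ← Matrix.mulVec_mulVec]
    rw [smul_add, smul_add, smul_smul, hTT, one_smul, smul_smul,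
      show T' * T ^ 2 = T by rw [pow_two, ← mul_assoc, hTT, one_mul]]
    abel
  have hGlev : ∀ i, σW.Lev 1 (G i - X i) := by
    intro i
    rw [← Pi.sub_apply, hsplit]
    simp only [Pi.add_apply, Pi.smul_apply, smul_eq_mul, Matrix.mulVec, dotProduct, Matrix.map_apply]
    refine ((((hT' ▸ σW.lev_zpow (-s)).mul' (j := s + 1) ?_ (by omega))).add ?_).add
      ((hTdef ▸ σW.lev_zpow s).mul' (j := ca + c) ?_ (by omega))
    · exact lev_sum fun j _ => (levC (hecb i j)).mul' (levC (hf0 j)) (by omega)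
    · exact lev_sum fun j _ => (levC (hlin i j)).mul' (levX j) (by omega)
    · exact lev_sum fun j _ => (levC (hecb i j)).mul' ((hH j).anti (hc j)) le_rfl
  obtain ⟨w, hw⟩ := exists_zero t ι G fun i => by
    obtain ⟨p, hp⟩ := (lev_nat_iff (C t) ιW htW (k := 1)).1 (hσW ▸ hGlev i)
    refine ⟨p, ?_⟩
    rw [← map_C, ← map_mul, ← pow_one (C t)]
    exact eq_add_of_sub_eq' hp
  -- the root
  obtain ⟨φ, hφ⟩ : ∃ φ : MvPolynomial (Fin m) R →ₐ[R] R, φ = aeval (R := R) (fun j => ι (w j)) := ⟨_, rfl⟩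
  obtain ⟨x, hx⟩ : ∃ x : Fin n → R, x = fun i => φ (ξ i) := ⟨_, rfl⟩
  suffices h : (fun j => aeval x (f j)) = 0 ∧ ∀ i, σ'.Lev K₀ (algebraMap R R' (x i) - x' i) from
    ⟨x, fun j => congrFun h.1 j, fun i => (h.2 i).anti hN⟩
  obtain ⟨fx, hfx⟩ : ∃ fx, fx = fun j => aeval x (f j) := ⟨_, rfl⟩
  rw [← hfx]
  have heC : ∀ v : Fin m → MvPolynomial (Fin m) R,
      (fun i => φ ((e.map C).mulVec v i)) = e.mulVec fun j => φ (v j) := fun v => by
    funext i
    simp [Matrix.mulVec, dotProduct, hφ]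
  have hcomp : ∀ j, φ (aeval ξ (f j)) = fx j := fun j => by rw [hfx, hx]; exact comp_aeval_apply _ φ _
  have hX : ∀ j, φ (X j) = ι (w j) := fun j => by rw [hφ]; exact aeval_X _ _
  have hG0 : φ T' • e.mulVec fx + (fun j => ι (w j)) - e.mulVec (fun j => ι (w j)) = 0 := by
    funext i
    have h := hw i
    rw [← hφ, hG] at h
    simp only [Pi.add_apply, Pi.sub_apply, Pi.smul_apply, smul_eq_mul, map_add, map_sub, map_mul,
      congrFun (heC _) i] at h
    simp only [hcomp, hX] at h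
    simpa only [Pi.add_apply, Pi.sub_apply, Pi.smul_apply, smul_eq_mul, Pi.zero_apply] using h
  have hefx : e.mulVec fx = 0 := by
    have h := congrArg e.mulVec hG0
    rw [Matrix.mulVec_sub, Matrix.mulVec_add, Matrix.mulVec_smul, Matrix.mulVec_mulVec, Matrix.mulVec_mulVec,
      hee, add_sub_cancel_right, Matrix.mulVec_zero] at h
    exact ((IsUnit.map φ (hT' ▸ Units.isUnit _)).smul_eq_zero).1 h
  have hclose : ∀ i, σ'.Lev K₀ (algebraMap R R' (x i) - x' i) := by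
    intro i
    have hxi : x i = x₀ i + φ T * ∑ j, M₀ i j * ι (w j) := by
      simp [hx, hξ, hl, hφ, Matrix.mulVec, dotProduct]
    have hτ' : φ T = (((Scale.ofHom ι t ht).τ ^ s : Rˣ) : R) := by
      rw [hTdef, show σW.τ = Units.map (C : R →+* MvPolynomial (Fin m) R) (Scale.ofHom ι t ht).τ from
        Units.ext hτW.symm, ← map_zpow, hφ]
      exact aeval_C _ _
    have hd : (Scale.ofHom ι t ht).Lev K₀ (φ T * ∑ j, M₀ i j * ι (w j)) := by
      rw [hτ']
      exact (lev_zpow _ s).mul' (lev_sum fun j _ => (hMcb i j).mul' (lev_zero_iff.2 ⟨w j, rfl⟩) le_rfl)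
        (by omega)
    have h := (hle 0 i).add (hmap _ _ hd)
    rw [hxi, map_add, add_sub_right_comm]
    exact h
  have hσ1 : (Scale.ofHom ι t ht).MLev 1 (P.map (aeval x) - e) := fun i j => by
    have h := htr 1 (P.map (aeval x) i j - a i j) (by
      have := (hK₀ x hclose i j).sub (hK₀ x₀ (hle 0) i j)
      rw [map_sub, ha]
      convert this using 1
      simp only [Matrix.sub_apply, Matrix.map_apply]
      ring)
    have h' := h.sub ((hea i j).anti (show (1 : ℤ) ≤ ca + k by omega))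
    convert h' using 1
    simp only [Matrix.sub_apply]
    ring
  refine ⟨eq_zero_of_small t ι ht hσ1 ?_, hclose⟩
  rw [Matrix.sub_mulVec, hefx, sub_zero, hfx]
  funext j
  conv_lhs => rw [congrFun hrel j]
  simp [Matrix.mulVec, dotProduct, map_sum]

theorem exists_root {A R R' : Type u} [CommRing A] [CommRing R] [CommRing R'] [Algebra R R'] (t : A)
    [HenselianRing A (Ideal.span {t})] (ι : A →+* R) (ht : IsUnit (ι t)) (σ' : Scale R')
    (hmap : ∀ i r, (Scale.ofHom ι t ht).Lev i r → σ'.Lev i (algebraMap R R' r))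
    (htr : ∀ i r, σ'.Lev i (algebraMap R R' r) → (Scale.ofHom ι t ht).Lev i r)
    (happ : ∀ (r' : R') (k : ℤ), ∃ r : R, σ'.Lev k (algebraMap R R' r - r'))
    (hex : ∀ r' : R', ∃ i, σ'.Lev i r')
    {n m : ℕ} (f : Fin m → MvPolynomial (Fin n) R) (M : Matrix (Fin n) (Fin m) (MvPolynomial (Fin n) R))
    (Q : Matrix (Fin m) (Fin m) (MvPolynomial (Fin n) R))
    (hrel : f = ((Matrix.of fun j i => pderiv i (f j)) * M + Q).mulVec f)
    (x' : Fin n → R') (hf : ∀ j, aeval x' (f j) = 0) (hQ : ∀ j k, aeval x' (Q j k) = 0) :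
    ∃ x : Fin n → R, ∀ j, aeval x (f j) = 0 :=
  (exists_root_near t ι ht σ' hmap htr happ hex f M Q hrel x' hf hQ 0).imp fun _ h => h.1

end Groth.Agent.NonAbLib.LevelNewton
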