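import Mathlib.Algebra.MvPolynomial.PDeriv
import Mathlib.Algebra.MvPolynomial.Eval
import Mathlib.RingTheory.Ideal.Operations
import Mathlib.LinearAlgebra.Matrix.Defs
import Mathlib.Data.Matrix.Mul
import Mathlib.Tactic.Ring
import Mathlib.Tactic.LinearCombination

/-!
# Levels of elements of a localisation `A[1/t]`, and Taylor expansion with bounds
-/

namespace Groth.Agent.NonAbLib.LevelNewton

open MvPolynomial

/-- A subring with a distinguished element of it which is a unit of the ambient ring. -/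
structure Scale (S : Type*) [CommRing S] where
  O : Subring S
  τ : Sˣ
  hτ : (τ : S) ∈ O

variable {S : Type*} [CommRing S] {S' : Type*} [CommRing S']

namespace Scale

/-- `r` lies in `τ ^ i • O`. -/
def Lev (σ : Scale S) (i : ℤ) (r : S) : Prop := ((σ.τ ^ (-i) : Sˣ) : S) * r ∈ σ.O

/-- The scale given by a ring map and an element going to a unit. -/
noncomputable def ofHom {A : Type*} [CommRing A] (ι : A →+* S) (t : A) (h : IsUnit (ι t)) : Scale S where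
  O := ι.range
  τ := h.unit
  hτ := ⟨t, h.unit_spec.symm⟩

variable {σ : Scale S} {σ' : Scale S'}

theorem zpow_mem (σ : Scale S) {i : ℤ} (hi : 0 ≤ i) : ((σ.τ ^ i : Sˣ) : S) ∈ σ.O := by
  obtain ⟨n, rfl⟩ := Int.eq_ofNat_of_zero_le hi
  simpa using pow_mem σ.hτ n

theorem Lev.anti {i j : ℤ} (h : i ≤ j) {r : S} (hr : σ.Lev j r) : σ.Lev i r := by
  have e : ((σ.τ ^ (-i) : Sˣ) : S) * r = ((σ.τ ^ (j - i) : Sˣ) : S) * (((σ.τ ^ (-j) : Sˣ) : S) * r) := by
    rw [← mul_assoc, ← Units.val_mul, ← zpow_add]; congr 3; ring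
  rw [Lev, e]
  exact mul_mem (σ.zpow_mem (by omega)) hr

theorem lev_zero {i : ℤ} : σ.Lev i (0 : S) := by simp [Lev]

theorem lev_zero_iff {r : S} : σ.Lev 0 r ↔ r ∈ σ.O := by simp [Lev]

theorem lev_one {i : ℤ} (hi : i ≤ 0) : σ.Lev i (1 : S) := Lev.anti hi (lev_zero_iff.2 (one_mem _))

theorem lev_zpow (σ : Scale S) (i : ℤ) : σ.Lev i ((σ.τ ^ i : Sˣ) : S) := by simp [Lev]

theorem Lev.add {i : ℤ} {r s : S} (hr : σ.Lev i r) (hs : σ.Lev i s) : σ.Lev i (r + s) := by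
  rw [Lev, mul_add]; exact add_mem hr hs

theorem Lev.neg {i : ℤ} {r : S} (hr : σ.Lev i r) : σ.Lev i (-r) := by
  rw [Lev, mul_neg]; exact neg_mem hr

theorem Lev.sub {i : ℤ} {r s : S} (hr : σ.Lev i r) (hs : σ.Lev i s) : σ.Lev i (r - s) := by
  rw [Lev, mul_sub]; exact sub_mem hr hs

theorem Lev.mul {i j : ℤ} {r s : S} (hr : σ.Lev i r) (hs : σ.Lev j s) : σ.Lev (i + j) (r * s) := by
  have e : ((σ.τ ^ (-(i + j)) : Sˣ) : S) * (r * s) =
      (((σ.τ ^ (-i) : Sˣ) : S) * r) * (((σ.τ ^ (-j) : Sˣ) : S) * s) := by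
    rw [neg_add, zpow_add, Units.val_mul]; ring
  rw [Lev, e]; exact mul_mem hr hs

theorem Lev.mul' {i j k : ℤ} {r s : S} (hr : σ.Lev i r) (hs : σ.Lev j s) (hk : k ≤ i + j) : σ.Lev k (r * s) :=
  (hr.mul hs).anti hk

theorem lev_sum {ι : Type*} {s : Finset ι} {i : ℤ} {g : ι → S} (h : ∀ a ∈ s, σ.Lev i (g a)) :
    σ.Lev i (∑ a ∈ s, g a) :=
  Finset.sum_induction g (σ.Lev i) (fun _ _ => Lev.add) lev_zero h

theorem Lev.map {g : S →+* S'} (hO : ∀ r ∈ σ.O, g r ∈ σ'.O) (hτ : g σ.τ = σ'.τ) {i : ℤ} {r : S}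
    (hr : σ.Lev i r) : σ'.Lev i (g r) := by
  have e : g ((σ.τ ^ (-i) : Sˣ) : S) = ((σ'.τ ^ (-i) : S'ˣ) : S') := by
    rw [show σ'.τ = Units.map (g : S →* S') σ.τ from Units.ext hτ.symm, ← map_zpow]; rfl
  rw [Lev, ← e, ← map_mul]; exact hO _ hr

/-- Matrices with all entries of level `i`. -/
def MLev (σ : Scale S) {m n : Type*} (i : ℤ) (M : Matrix m n S) : Prop := ∀ a b, σ.Lev i (M a b)

theorem MLev.mul {m n p : Type*} [Fintype n] {i j k : ℤ} {M : Matrix m n S} {N : Matrix n p S}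
    (hM : σ.MLev i M) (hN : σ.MLev j N) (hk : k ≤ i + j) : σ.MLev k (M * N) := fun a b => by
  rw [Matrix.mul_apply]
  exact lev_sum fun c _ => (hM a c).mul' (hN c b) hk

theorem MLev.add {m n : Type*} {i : ℤ} {M N : Matrix m n S} (hM : σ.MLev i M) (hN : σ.MLev i N) :
    σ.MLev i (M + N) := fun a b => (hM a b).add (hN a b)

theorem MLev.sub {m n : Type*} {i : ℤ} {M N : Matrix m n S} (hM : σ.MLev i M) (hN : σ.MLev i N) :
    σ.MLev i (M - N) := fun a b => (hM a b).sub (hN a b)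

theorem MLev.anti {m n : Type*} {i j : ℤ} (h : i ≤ j) {M : Matrix m n S} (hM : σ.MLev j M) :
    σ.MLev i M := fun a b => (hM a b).anti h

theorem mlev_one {m : Type*} [DecidableEq m] {i : ℤ} (hi : i ≤ 0) : σ.MLev i (1 : Matrix m m S) := fun a b => by
  rw [Matrix.one_apply]; split
  · exact lev_one hi
  · exact lev_zero

end Scale

open Scale

variable {σ : Scale S} {R : Type*} [CommRing R] [Algebra R S] {ι : Type*} [Fintype ι]

/-- Taylor expansion to first order, with uniform bounds. -/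
theorem taylor (hc : ∀ r : R, ∃ i, σ.Lev i (algebraMap R S r)) (p : MvPolynomial ι R) (b : ℤ) :
    ∃ c : ℤ, ∀ (x l : ι → S) (T : S), (∀ i, σ.Lev b (x i)) → (∀ i, σ.Lev b (l i)) → σ.Lev 0 T →
      σ.Lev c (aeval x p) ∧ σ.Lev c (∑ i, aeval x (pderiv i p) * l i) ∧ ∃ H, σ.Lev c H ∧
        aeval (fun i => x i + T * l i) p =
          aeval x p + T * ∑ i, aeval x (pderiv i p) * l i + T ^ 2 * H := by
  classical
  induction p using MvPolynomial.induction_on with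
  | C r =>
    obtain ⟨c, hc⟩ := hc r
    refine ⟨c, fun x l T _ _ _ => ?_⟩
    simp only [aeval_C, pderiv_C, map_zero, zero_mul, Finset.sum_const_zero]
    exact ⟨hc, lev_zero, 0, lev_zero, by ring⟩
  | add p q hp hq =>
    obtain ⟨c₁, hp⟩ := hp
    obtain ⟨c₂, hq⟩ := hq
    refine ⟨min c₁ c₂, fun x l T hx hl hT => ?_⟩
    obtain ⟨hp₀, hp₁, H₁, hH₁, e₁⟩ := hp x l T hx hl hT
    obtain ⟨hq₀, hq₁, H₂, hH₂, e₂⟩ := hq x l T hx hl hT
    simp only [map_add, add_mul, Finset.sum_add_distrib]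
    exact ⟨(hp₀.anti (min_le_left _ _)).add (hq₀.anti (min_le_right _ _)),
      (hp₁.anti (min_le_left _ _)).add (hq₁.anti (min_le_right _ _)), H₁ + H₂,
      (hH₁.anti (min_le_left _ _)).add (hH₂.anti (min_le_right _ _)), by rw [e₁, e₂]; ring⟩
  | mul_X p i hp =>
    obtain ⟨c, hp⟩ := hp
    refine ⟨c + b, fun x l T hx hl hT => ?_⟩
    obtain ⟨hp₀, hp₁, H, hH, e⟩ := hp x l T hx hl hT
    obtain ⟨L, hL⟩ : ∃ L, L = ∑ j, aeval x (pderiv j p) * l j := ⟨_, rfl⟩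
    have hsum : ∑ j, aeval x (pderiv j (p * X i)) * l j = L * x i + aeval x p * l i := by
      simp only [Derivation.leibniz, pderiv_X, smul_eq_mul, map_add, map_mul, aeval_X, add_mul,
        Finset.sum_add_distrib]
      rw [add_comm, hL, Finset.sum_mul]
      refine congrArg₂ (· + ·) (Finset.sum_congr rfl fun j _ => by ring) ?_
      rw [Finset.sum_eq_single i (fun j _ hj => by simp [Pi.single_eq_of_ne' hj]) (by simp)]
      simp
    rw [hsum, map_mul, aeval_X]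
    rw [← hL] at e hp₁
    refine ⟨hp₀.mul (hx i), (hp₁.mul (hx i)).add (hp₀.mul (hl i)), H * x i + L * l i + T * (H * l i), ?_, ?_⟩
    · exact ((hH.mul (hx i)).add (hp₁.mul (hl i))).add (hT.mul' (hH.mul (hl i)) (by omega))
    · rw [map_mul, aeval_X, e]; ring

/-- Polynomials are continuous. -/
theorem continuous_at_bounded (hc : ∀ r : R, ∃ i, σ.Lev i (algebraMap R S r)) (p : MvPolynomial ι R) (b k : ℤ) :
    ∃ K : ℤ, ∀ x y : ι → S, (∀ i, σ.Lev b (x i)) → (∀ i, σ.Lev K (y i - x i)) →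
      σ.Lev k (aeval y p - aeval x p) := by
  obtain ⟨c, h⟩ := taylor hc p b
  obtain ⟨K', hK'⟩ : ∃ K', K' = max 0 (k - c) := ⟨_, rfl⟩
  have h0 : 0 ≤ K' := hK' ▸ le_max_left _ _
  have h1 : k - c ≤ K' := hK' ▸ le_max_right _ _
  refine ⟨K' + b, fun x y hx hy => ?_⟩
  obtain ⟨-, hL, H, hH, e⟩ := h x (fun i => ((σ.τ ^ (-K') : Sˣ) : S) * (y i - x i)) ((σ.τ ^ K' : Sˣ) : S) hx
    (fun i => (σ.lev_zpow (-K')).mul' (hy i) (by omega)) ((σ.lev_zpow K').anti h0)
  have hy' : (fun i => x i + ((σ.τ ^ K' : Sˣ) : S) * (((σ.τ ^ (-K') : Sˣ) : S) * (y i - x i))) = y := by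
    funext i; rw [← mul_assoc, ← Units.val_mul, ← zpow_add, add_neg_cancel, zpow_zero, Units.val_one, one_mul,
      add_sub_cancel]
  rw [hy'] at e
  rw [show aeval y p - aeval x p = ((σ.τ ^ K' : Sˣ) : S) *
      ((∑ i, aeval x (pderiv i p) * (((σ.τ ^ (-K') : Sˣ) : S) * (y i - x i))) + ((σ.τ ^ K' : Sˣ) : S) * H) by
    rw [e]; ring]
  exact (σ.lev_zpow K').mul' (hL.add (((σ.lev_zpow K').anti h0).mul' hH (by omega))) (by omega)

end Groth.Agent.NonAbLib.LevelNewton
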