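import Groth.Agent.NonAbLib.LevelNewton.Root
import Mathlib.RingTheory.Smooth.Basic
import Mathlib.RingTheory.Localization.Away.Basic

/-!
# Points of smooth `A[1/t]`-algebras descend from `A'[1/t]`
-/

universe u

namespace Groth.Agent.NonAbLib.LevelNewton

open MvPolynomial

/-- A presentation of a smooth algebra together with a splitting of its conormal sequence. -/
theorem exists_split_presentation (R B : Type u) [CommRing R] [CommRing B] [Algebra R B] [Algebra.Smooth R B] :
    ∃ (n m : ℕ) (π : MvPolynomial (Fin n) R →ₐ[R] B) (f : Fin m → MvPolynomial (Fin n) R)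
      (M : Matrix (Fin n) (Fin m) (MvPolynomial (Fin n) R)) (Q : Matrix (Fin m) (Fin m) (MvPolynomial (Fin n) R)),
      Function.Surjective π ∧ RingHom.ker π = Ideal.span (Set.range f) ∧
      (∀ j k, Q j k ∈ Ideal.span (Set.range f)) ∧
      f = ((Matrix.of fun j i => pderiv i (f j)) * M + Q).mulVec f := by
  classical
  obtain ⟨n, π, hπ, hfg⟩ := Algebra.FinitePresentation.out (R := R) (A := B)
  obtain ⟨m, f, hf⟩ := Submodule.fg_iff_exists_fin_generating_family.1 hfg
  obtain ⟨I, hI⟩ : ∃ I, I = Ideal.span (Set.range f) := ⟨_, rfl⟩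
  have hker : RingHom.ker π = I := hI ▸ hf.symm
  let g : (MvPolynomial (Fin n) R ⧸ I ^ 2) →ₐ[R] B := Ideal.Quotient.liftₐ (I ^ 2) π fun x hx =>
    (RingHom.mem_ker).1 (hker ▸ Ideal.pow_le_self two_ne_zero hx)
  have hg : Function.Surjective g := fun b => by
    obtain ⟨p, rfl⟩ := hπ b
    exact ⟨Ideal.Quotient.mk _ p, rfl⟩
  have hnil : IsNilpotent (RingHom.ker (g : MvPolynomial (Fin n) R ⧸ I ^ 2 →+* B)) := by
    have h : RingHom.ker (g : MvPolynomial (Fin n) R ⧸ I ^ 2 →+* B) = I.map (Ideal.Quotient.mk (I ^ 2)) := by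
      refine le_antisymm (fun x hx => ?_) (Ideal.map_le_iff_le_comap.2 fun p hp => ?_)
      · obtain ⟨p, rfl⟩ := Ideal.Quotient.mk_surjective x
        exact Ideal.mem_map_of_mem _ (hker ▸ (RingHom.mem_ker (f := π)).2 hx)
      · exact (RingHom.mem_ker).2 ((RingHom.mem_ker (f := π)).1 (hker.symm ▸ hp))
    exact ⟨2, by rw [h, ← Ideal.map_pow, Ideal.map_quotient_self]; rfl⟩
  let s := Algebra.FormallySmooth.liftOfSurjective (AlgHom.id R B) g hg hnil
  choose y hy using fun i => Ideal.Quotient.mk_surjective (I := I ^ 2) (s (π (X i)))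
  have hδ : ∀ i, y i - X i ∈ I := fun i => by
    rw [← hker, RingHom.mem_ker, map_sub, sub_eq_zero]
    calc π (y i) = g (Ideal.Quotient.mk _ (y i)) := rfl
      _ = g (s (π (X i))) := by rw [hy]
      _ = π (X i) := Algebra.FormallySmooth.liftOfSurjective_apply _ g hg hnil _
  have hy2 : ∀ h ∈ I, aeval y h ∈ I ^ 2 := fun h hh => by
    have e : (Ideal.Quotient.mkₐ R (I ^ 2)).comp (aeval y) = s.comp π :=
      MvPolynomial.algHom_ext fun i => by simp [hy]
    refine Ideal.Quotient.eq_zero_iff_mem.1 ((AlgHom.congr_fun e h).trans ?_)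
    rw [AlgHom.comp_apply, (RingHom.mem_ker (f := π)).1 (hker.symm ▸ hh), map_zero]
  have htay : ∀ h : MvPolynomial (Fin n) R,
      aeval y h - h - ∑ i, pderiv i h * (y i - X i) ∈ I ^ 2 := fun h => by
    induction h using MvPolynomial.induction_on with
    | C r => simp
    | add p q hp hq =>
      convert Ideal.add_mem _ hp hq using 1
      simp only [map_add, add_mul, Finset.sum_add_distrib]
      ring
    | mul_X p i hp =>
      have h1 : ∑ l, pderiv l (p * X i) * (y l - X l) =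
          (∑ l, pderiv l p * (y l - X l)) * X i + p * (y i - X i) := by
        simp only [Derivation.leibniz, pderiv_X, smul_eq_mul, add_mul, Finset.sum_add_distrib]
        rw [add_comm, Finset.sum_mul]
        refine congrArg₂ (· + ·) (Finset.sum_congr rfl fun j _ => by ring) ?_
        rw [Finset.sum_eq_single i (fun j _ hj => by simp [Pi.single_eq_of_ne' hj]) (by simp)]
        simp
      rw [h1, map_mul, aeval_X, show aeval y p * y i - p * X i -
          ((∑ l, pderiv l p * (y l - X l)) * X i + p * (y i - X i)) =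
          (aeval y p - p - ∑ l, pderiv l p * (y l - X l)) * y i +
            (∑ l, pderiv l p * (y l - X l)) * (y i - X i) by ring]
      refine Ideal.add_mem _ (Ideal.mul_mem_right _ _ hp) ?_
      rw [pow_two]
      exact Ideal.mul_mem_mul (sum_mem fun l _ => I.mul_mem_left _ (hδ l)) (hδ i)
  choose N hN using fun i => Ideal.mem_span_range_iff_exists_fun.1 (hI ▸ hδ i)
  have hfI : ∀ j, f j + ∑ i, pderiv i (f j) * (y i - X i) ∈ I • Submodule.span _ (Set.range f) := fun j => by
    have h := Ideal.sub_mem _ (hy2 (f j) (hI ▸ Ideal.subset_span ⟨j, rfl⟩)) (htay (f j))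
    rw [smul_eq_mul, show Submodule.span (MvPolynomial (Fin n) R) (Set.range f) = I from hI.symm, ← pow_two,
      show f j + ∑ i, pderiv i (f j) * (y i - X i) =
        aeval y (f j) - (aeval y (f j) - f j - ∑ i, pderiv i (f j) * (y i - X i)) by ring]
    exact h
  choose q hqI hq using fun j => (Submodule.mem_ideal_smul_span_iff_exists_sum I f _).1 (hfI j)
  refine ⟨n, m, π, f, Matrix.of fun i k => - N i k, Matrix.of fun j k => q j k, hπ, hker.trans hI,
    fun j k => hI ▸ hqI j k, funext fun j => ?_⟩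
  have e := hq j
  rw [Finsupp.sum_fintype (q j) (fun i c => c • f i) (fun i => zero_smul _ _)] at e
  simp only [← hN, smul_eq_mul] at e
  rw [Matrix.add_mulVec, Pi.add_apply, ← Matrix.mulVec_mulVec]
  simp only [Matrix.mulVec, dotProduct, Matrix.of_apply, neg_mul, Finset.sum_neg_distrib, mul_neg]
  linear_combination -e

/-- If `A/t^m = A'/t^m` for all `m` and `(A, tA)` is henselian, a smooth `A[1/t]`-algebra with a point in
`A'[1/t]` has a point in `A[1/t]` approximating it on any finite set. -/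
theorem exists_algHom_near {A A' R R' B : Type u} [CommRing A] [CommRing A'] [CommRing R] [CommRing R'] [CommRing B]
    (t : A) [HenselianRing A (Ideal.span {t})] (φ : A →+* A')
    (hinj : ∀ (m : ℕ) a, φ t ^ m ∣ φ a → t ^ m ∣ a) (hsurj : ∀ (m : ℕ) a', ∃ a, φ t ^ m ∣ a' - φ a)
    [Algebra A R] [IsLocalization.Away t R] [Algebra A' R'] [IsLocalization.Away (φ t) R']
    (χ : R →+* R') (hχ : χ.comp (algebraMap A R) = (algebraMap A' R').comp φ)
    [Algebra R B] [Algebra.Smooth R B] (β : B →+* R') (hβ : β.comp (algebraMap R B) = χ) (N : ℕ) (S : Finset B) :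
    ∃ ρ : B →ₐ[R] R, ∀ b ∈ S, ∃ d : A', χ (ρ b) - β b = algebraMap A' R' (φ t ^ N * d) := by
  have ht : IsUnit (algebraMap A R t) := IsLocalization.Away.algebraMap_isUnit t
  have ht' : IsUnit (algebraMap A' R' (φ t)) := IsLocalization.Away.algebraMap_isUnit _
  let _ := χ.toAlgebra
  obtain ⟨σ, hσ⟩ : ∃ σ, σ = Scale.ofHom (algebraMap A R) t ht := ⟨_, rfl⟩
  obtain ⟨σ', hσ'⟩ : ∃ σ', σ' = Scale.ofHom (algebraMap A' R') (φ t) ht' := ⟨_, rfl⟩
  have hχ' : ∀ a, χ (algebraMap A R a) = algebraMap A' R' (φ a) := RingHom.congr_fun hχ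
  have hτ : χ σ.τ = σ'.τ := by rw [hσ, hσ']; exact hχ' t
  have hO : ∀ r ∈ σ.O, χ r ∈ σ'.O := by
    rw [hσ, hσ']; rintro _ ⟨a, rfl⟩; exact ⟨φ a, (hχ' a).symm⟩
  have hτz : ∀ i : ℤ, χ ((σ.τ ^ i : Rˣ) : R) = ((σ'.τ ^ i : R'ˣ) : R') := fun i => by
    rw [show σ'.τ = Units.map (χ : R →* R') σ.τ from Units.ext hτ.symm, ← map_zpow]; rfl
  have hex : ∀ r' : R', ∃ i, σ'.Lev i r' := fun r' => by
    obtain ⟨c, a, ha⟩ := IsLocalization.Away.surj (φ t) r'
    refine ⟨-(c : ℤ), ?_⟩
    rw [Scale.Lev, neg_neg, zpow_natCast, Units.val_pow_eq_pow_val, mul_comm, hσ']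
    exact ⟨a, ha.symm⟩
  have htr : ∀ i r, σ'.Lev i (χ r) → σ.Lev i r := fun i r h => by
    rw [Scale.Lev, ← hτz, ← map_mul] at h
    rw [Scale.Lev]
    generalize ((σ.τ ^ (-i) : Rˣ) : R) * r = r₀ at h ⊢
    rw [hσ'] at h
    obtain ⟨a', ha'⟩ := h
    obtain ⟨c, a, ha⟩ := IsLocalization.Away.surj t r₀
    have h1 : algebraMap A' R' (φ a) = algebraMap A' R' (a' * φ t ^ c) := by
      rw [← hχ', ← ha, map_mul, map_mul, map_pow, map_pow, hχ', ha']
    obtain ⟨⟨_, e, rfl⟩, he⟩ := IsLocalization.exists_of_eq (M := Submonoid.powers (φ t)) h1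
    obtain ⟨b, hb⟩ := hinj (e + c) (t ^ e * a) ⟨a', by rw [map_mul, map_pow]; exact he.trans (by ring)⟩
    rw [hσ]
    refine ⟨b, ((ht.pow e).mul (ht.pow c)).mul_left_cancel ?_⟩
    have h2 := congrArg (algebraMap A R) hb
    rw [map_mul, map_mul, map_pow, map_pow, ← ha, pow_add] at h2
    linear_combination -h2
  have happ : ∀ (r' : R') (k : ℤ), ∃ r : R, σ'.Lev k (χ r - r') := fun r' k => by
    obtain ⟨c, a', ha'⟩ := IsLocalization.Away.surj (φ t) r'
    obtain ⟨a, d, hd⟩ := hsurj (k + c).toNat a'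
    refine ⟨((σ.τ ^ (-(c : ℤ)) : Rˣ) : R) * algebraMap A R a, ?_⟩
    have h1 : r' = ((σ'.τ ^ (-(c : ℤ)) : R'ˣ) : R') * algebraMap A' R' a' := by
      rw [← ha', hσ', zpow_neg, zpow_natCast, mul_comm r', ← mul_assoc]
      have hu : algebraMap A' R' (φ t) ^ c = (((Scale.ofHom (algebraMap A' R') (φ t) ht').τ ^ c : R'ˣ) : R') :=
        by rw [Units.val_pow_eq_pow_val]; rfl
      rw [hu, Units.inv_mul, one_mul]
    have h2 : σ'.Lev (k + c) (algebraMap A' R' (φ a) - algebraMap A' R' a') := by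
      refine Scale.Lev.anti (Int.self_le_toNat _) ?_
      rw [hσ']
      exact (lev_nat_iff (φ t) (algebraMap A' R') ht').2 ⟨-d, by rw [← map_sub, mul_neg, ← hd, neg_sub]⟩
    rw [map_mul, hτz, hχ', h1, ← mul_sub]
    exact (Scale.lev_zpow σ' _).mul' h2 (by omega)
  obtain ⟨n, m, π, f, M, Q, hπ, hker, hQ, hrel⟩ := exists_split_presentation R B
  let β' : B →ₐ[R] R' := { β with commutes' := RingHom.congr_fun hβ }
  have hz : ∀ p ∈ Ideal.span (Set.range f), aeval (fun i => β' (π (X i))) p = 0 := fun p hp => by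
    rw [show aeval (fun i => β' (π (X i))) = β'.comp π from (aeval_unique (β'.comp π)).symm, AlgHom.comp_apply,
      (RingHom.mem_ker (f := π)).1 (hker.symm ▸ hp), map_zero]
  choose p hp using hπ
  choose K hK using fun b : S => continuous_at_bounded (σ := σ') (fun r => hex (algebraMap R R' r)) (p b.1)
    (exists_lower fun i => (hex (β' (π (X i)))).choose).choose N
  obtain ⟨K', hK'⟩ := exists_upper K
  obtain ⟨x, hx, hxc⟩ := exists_root_near t (algebraMap A R) ht σ'
    (fun i r h => by subst hσ; exact h.map hO hτ) (fun i r h => hσ ▸ htr i r h) happ hex f M Q hrel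
    (fun i => β' (π (X i))) (fun j => hz _ (Ideal.subset_span ⟨j, rfl⟩)) (fun j k => hz _ (hQ j k)) K'
  have hle : RingHom.ker π ≤ RingHom.ker (aeval (R := R) x) := by
    rw [hker, Ideal.span_le]; rintro _ ⟨j, rfl⟩; exact hx j
  refine ⟨AlgHom.liftOfSurjective π (fun b => ⟨p b, hp b⟩) (aeval x) hle, fun b hb => ?_⟩
  have hbd : ∀ i, σ'.Lev (exists_lower fun i => (hex (β' (π (X i)))).choose).choose (β' (π (X i))) := fun i =>
    (hex (β' (π (X i)))).choose_spec.anti
      ((exists_lower fun i => (hex (β' (π (X i)))).choose).choose_spec.2 i)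
  have h := hK ⟨b, hb⟩ (fun i => β' (π (X i))) (fun i => algebraMap R R' (x i)) hbd
    fun i => (hxc i).anti (hK' ⟨b, hb⟩)
  rw [hσ'] at h
  obtain ⟨d, hd⟩ := (lev_nat_iff (φ t) (algebraMap A' R') ht' (k := N)).1 h
  refine ⟨d, ?_⟩
  dsimp only at hd ⊢
  rw [← hd, show aeval (fun i => algebraMap R R' (x i)) (p b) = algebraMap R R' (aeval x (p b)) from
      aeval_algebraMap_apply (B := R') x (p b),
    show aeval (fun i => β' (π (X i))) = β'.comp π from (aeval_unique (β'.comp π)).symm, AlgHom.comp_apply, hp]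
  refine congrArg₂ (· - ·) (congrArg χ ?_) rfl
  conv_lhs => rw [← hp b]
  exact AlgHom.liftOfSurjective_apply π _ (aeval x) hle (p b)

/-- If `A/t^m = A'/t^m` for all `m` and `(A, tA)` is henselian, a smooth `A[1/t]`-algebra with a point in
`A'[1/t]` has a point in `A[1/t]`. -/
theorem exists_algHom {A A' R R' B : Type u} [CommRing A] [CommRing A'] [CommRing R] [CommRing R'] [CommRing B]
    (t : A) [HenselianRing A (Ideal.span {t})] (φ : A →+* A')
    (hinj : ∀ (m : ℕ) a, φ t ^ m ∣ φ a → t ^ m ∣ a) (hsurj : ∀ (m : ℕ) a', ∃ a, φ t ^ m ∣ a' - φ a)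
    [Algebra A R] [IsLocalization.Away t R] [Algebra A' R'] [IsLocalization.Away (φ t) R']
    (χ : R →+* R') (hχ : χ.comp (algebraMap A R) = (algebraMap A' R').comp φ)
    [Algebra R B] [Algebra.Smooth R B] (β : B →+* R') (hβ : β.comp (algebraMap R B) = χ) :
    Nonempty (B →ₐ[R] R) :=
  let ⟨ρ, _⟩ := exists_algHom_near t φ hinj hsurj χ hχ β hβ 0 ∅
  ⟨ρ⟩

end Groth.Agent.NonAbLib.LevelNewton
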