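import Groth.Agent.NonAbLib.LevelNewton.Scale
import Groth.Agent.Hensel.Newton
import Groth.Agent.Hensel.PairBasic
import Mathlib.LinearAlgebra.Matrix.Charpoly.Coeff
import Mathlib.RingTheory.AdjoinRoot
import Mathlib.RingTheory.Nakayama
import Mathlib.Tactic.NoncommRing

/-!
# Exact solutions near approximate ones over `A[1/t]` for a henselian pair `(A, tA)`
-/

universe u

namespace Groth.Agent.NonAbLib.LevelNewton

open Scale

variable {A : Type u} [CommRing A] {R : Type u} [CommRing R] (t : A) (ι : A →+* R) (ht : IsUnit (ι t))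

theorem lev_nat_iff {k : ℕ} {r : R} : (Scale.ofHom ι t ht).Lev k r ↔ ∃ a, r = ι (t ^ k * a) := by
  have e : (((ht.unit : Rˣ) ^ (k : ℤ) : Rˣ) : R) = ι (t ^ k) := by simp [IsUnit.unit_spec]
  constructor
  · rintro ⟨a, ha⟩
    refine ⟨a, ?_⟩
    rw [map_mul, ← e, ha, show (Scale.ofHom ι t ht).τ = ht.unit from rfl, ← mul_assoc, ← Units.val_mul,
      ← zpow_add, add_neg_cancel, zpow_zero, Units.val_one, one_mul]
  · rintro ⟨a, rfl⟩
    refine ⟨a, ?_⟩
    rw [map_mul, ← e, show (Scale.ofHom ι t ht).τ = ht.unit from rfl, ← mul_assoc, ← Units.val_mul,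
      ← zpow_add, neg_add_cancel, zpow_zero, Units.val_one, one_mul]

variable [HenselianRing A (Ideal.span {t})]

/-- Nakayama for families of elements of `R`. -/
theorem eq_zero_of_small {m : ℕ} {v : Fin m → R} {c : Matrix (Fin m) (Fin m) R}
    (hc : (Scale.ofHom ι t ht).MLev 1 c) (h : v = c.mulVec v) : v = 0 := by
  let _ : Algebra A R := ι.toAlgebra
  have hN : Submodule.span A (Set.range v) = ⊥ := by
    refine Submodule.eq_bot_of_le_smul_of_le_jacobson_bot (Ideal.span {t}) _
      (Submodule.fg_span (Set.finite_range v)) (Submodule.span_le.2 ?_) HenselianRing.jac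
    rintro _ ⟨j, rfl⟩
    rw [congrFun h j]
    show ∑ l, c j l * v l ∈ (_ : Submodule A R)
    refine Submodule.sum_mem _ fun l _ => ?_
    obtain ⟨a, ha⟩ := (lev_nat_iff t ι ht (k := 1)).1 (hc j l)
    rw [show c j l * v l = (t ^ 1 * a) • v l by rw [Algebra.smul_def, RingHom.algebraMap_toAlgebra, ← ha]]
    exact Submodule.smul_mem_smul (Ideal.mem_span_singleton'.2 ⟨a, by ring⟩) (Submodule.subset_span ⟨l, rfl⟩)
  funext j
  exact (Submodule.eq_bot_iff _).1 hN (v j) (Submodule.subset_span ⟨j, rfl⟩)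

/-- A system congruent to `w = 0` modulo `t` has a solution. -/
theorem exists_zero {m : ℕ} (G : Fin m → MvPolynomial (Fin m) R)
    (hG : ∀ i, ∃ P : MvPolynomial (Fin m) A, G i = MvPolynomial.X i + MvPolynomial.C (ι t) * MvPolynomial.map ι P) :
    ∃ w : Fin m → A, ∀ i, MvPolynomial.aeval (fun j => ι (w j)) (G i) = 0 := by
  classical
  choose P hP using hG
  obtain ⟨w, hw, -⟩ := Hensel.exists_root_of_isUnit_jacobian (Ideal.span {t})
    (fun i => MvPolynomial.X i + MvPolynomial.C t * P i) (fun _ => 0)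
    (fun i => by simp [Ideal.mem_span_singleton]) (by
      rw [RingHom.map_det]
      convert isUnit_one (M := A ⧸ Ideal.span {t})
      convert Matrix.det_one (n := Fin m)
      ext i j
      rw [RingHom.mapMatrix_apply, Matrix.map_apply, Matrix.of_apply]
      simp only [map_add, Derivation.leibniz, MvPolynomial.pderiv_X, MvPolynomial.pderiv_C,
        smul_eq_mul, map_mul, MvPolynomial.eval_C]
      have ht0 : Ideal.Quotient.mk (Ideal.span {t}) t = 0 :=
        Ideal.Quotient.eq_zero_iff_mem.2 (Ideal.mem_span_singleton_self t)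
      rcases eq_or_ne i j with rfl | h
      · simp [ht0]
      · simp [ht0, Pi.single_eq_of_ne h, Matrix.one_apply_ne h])
  refine ⟨w, fun i => ?_⟩
  rw [hP, MvPolynomial.aeval_eq_eval]
  have e : ∀ p : MvPolynomial (Fin m) A,
      MvPolynomial.eval (fun j => ι (w j)) (MvPolynomial.map ι p) = ι (MvPolynomial.eval w p) := fun p => by
    rw [MvPolynomial.eval_map]; exact (MvPolynomial.eval₂_comp _ _ _).symm
  have h := congrArg ι (hw i)
  simpa [e] using h

/-- An approximately idempotent matrix is close to an idempotent one. -/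
theorem exists_idem {m : ℕ} (a : Matrix (Fin m) (Fin m) R) {k : ℕ} (hk : 0 < k)
    (hc : (Scale.ofHom ι t ht).MLev k (a * a - a)) :
    ∃ e U : Matrix (Fin m) (Fin m) R, e * e = e ∧ (Scale.ofHom ι t ht).MLev k U ∧
      e = a + (1 - (a + a)) * U := by
  choose d hd using fun i j => (lev_nat_iff t ι ht).1 (hc i j)
  let D : Matrix (Fin m) (Fin m) A := Matrix.of d
  let P : Ideal (Polynomial A) := Ideal.span {D.charpoly}
  have : Module.Finite A (Polynomial A ⧸ P) := D.charpoly_monic.finite_quotient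
  have : Algebra.IsIntegral A (Polynomial A ⧸ P) := Algebra.IsIntegral.of_finite A _
  obtain ⟨J, hJ⟩ : ∃ J, J = (Ideal.span {t}).map (algebraMap A (Polynomial A ⧸ P)) := ⟨_, rfl⟩
  have : HenselianRing (Polynomial A ⧸ P) J :=
    hJ ▸ Hensel.henselianRing_of_isIntegral' (Ideal.span {t}) (Polynomial A ⧸ P)
  let θ : (Polynomial A ⧸ P) →+* Matrix (Fin m) (Fin m) A :=
    Ideal.Quotient.lift P (Polynomial.aeval D).toRingHom fun p hp => by
      obtain ⟨q, rfl⟩ := Ideal.mem_span_singleton'.1 hp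
      show Polynomial.aeval D (q * D.charpoly) = 0
      rw [map_mul, D.aeval_self_charpoly, mul_zero]
  obtain ⟨γ, hγ⟩ : ∃ γ : Polynomial A ⧸ P,
    γ = Ideal.Quotient.mk P (Polynomial.C (t ^ k) * Polynomial.X) := ⟨_, rfl⟩
  obtain ⟨T, hT⟩ : ∃ T : Polynomial A ⧸ P, T = Ideal.Quotient.mk P (Polynomial.C t) := ⟨_, rfl⟩
  have hTJ : T ∈ J := by rw [hJ, hT]; exact Ideal.mem_map_of_mem _ (Ideal.mem_span_singleton_self t)
  have hγT : γ = T ^ k * Ideal.Quotient.mk P Polynomial.X := by rw [hγ, hT, map_mul, map_pow, map_pow]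
  have hJu : ∀ x ∈ J, ∀ y, IsUnit (x * y + 1) := fun x hx y =>
    Ideal.mem_jacobson_bot.1 (HenselianRing.jac hx) y
  obtain ⟨v, hv⟩ := hJu γ (hγT ▸ J.mul_mem_right _ (Ideal.pow_mem_of_mem J hTJ k hk)) 4
  obtain ⟨w, hwdef⟩ : ∃ w, w = γ * ↑v⁻¹ := ⟨_, rfl⟩
  have hwJ : w ∈ J := by
    rw [hwdef, hγT, mul_assoc]; exact J.mul_mem_right _ (Ideal.pow_mem_of_mem J hTJ k hk)
  have hmon : (Polynomial.X ^ 2 + (-Polynomial.X + Polynomial.C w)).Monic := by
    refine Polynomial.monic_X_pow_add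
      (lt_of_le_of_lt ((Polynomial.degree_add_le _ _).trans (max_le (b := Polynomial.degree (Polynomial.C w)) (c := (1 : ℕ)) ?_ ?_))
        (Nat.cast_lt.2 one_lt_two))
    · rw [Polynomial.degree_neg]; exact Polynomial.degree_X_le
    · exact Polynomial.degree_C_le.trans (by simp)
  obtain ⟨u, hu, huJ⟩ := HenselianRing.is_henselian (I := J) _ hmon 0 (by simpa using hwJ)
    (by
      convert ((isUnit_one (M := Polynomial A ⧸ P)).neg).map (Ideal.Quotient.mk J)
      simp)
  rw [sub_zero] at huJ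
  simp only [Polynomial.IsRoot, Polynomial.eval_add, Polynomial.eval_pow, Polynomial.eval_X,
    Polynomial.eval_neg, Polynomial.eval_C] at hu
  obtain ⟨v', hv'⟩ := hJu u huJ (-1)
  have huT : u = T ^ k * (Ideal.Quotient.mk P Polynomial.X * ↑v⁻¹ * ↑v'⁻¹) := by
    have h1 : u * ↑v' = w := by rw [hv']; linear_combination -hu
    have h2 : u = w * ↑v'⁻¹ := by rw [← h1, Units.mul_inv_cancel_right]
    rw [h2, hwdef, hγT]; ring
  have heq : (γ * 4 + 1) * (u ^ 2 - u) + γ = 0 := by
    have h1 : (γ * 4 + 1) * w = γ := by rw [← hv, hwdef, mul_left_comm, Units.mul_inv, mul_one]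
    linear_combination (γ * 4 + 1) * hu - h1
  let Φ : (Polynomial A ⧸ P) →+* Matrix (Fin m) (Fin m) R := ι.mapMatrix.comp θ
  obtain ⟨z, hz⟩ : ∃ z, z = Φ (Ideal.Quotient.mk P Polynomial.X * ↑v⁻¹ * ↑v'⁻¹) := ⟨_, rfl⟩
  have hΦT : Φ (T ^ k) = Matrix.scalar (Fin m) (ι (t ^ k)) := by
    rw [hT, ← map_pow, ← map_pow]
    show ι.mapMatrix (Polynomial.aeval D (Polynomial.C (t ^ k))) = _
    rw [Polynomial.aeval_C]
    ext i j
    by_cases h : i = j <;> simp [h, Matrix.algebraMap_matrix_apply, Matrix.scalar_apply, -map_pow]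
  have hΦγ : Φ γ = a * a - a := by
    rw [hγT, map_mul, hΦT]
    show _ * ι.mapMatrix (Polynomial.aeval D Polynomial.X) = _
    rw [Polynomial.aeval_X]
    ext i j
    simp [Matrix.scalar_apply, Matrix.diagonal_mul, hd i j, D]
  have hcomm : ∀ x, Commute a (Φ x) := by
    have hX : Commute a (Φ (Ideal.Quotient.mk P Polynomial.X)) := by
      have h1 : Commute a (Φ γ) := by rw [hΦγ]; exact (Commute.refl a).mul_right (Commute.refl a) |>.sub_right (Commute.refl a)
      rw [hγT, map_mul, hΦT] at h1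
      obtain ⟨s, hs⟩ := (ht.pow k)
      rw [← map_pow] at hs
      have hss : Commute a (Matrix.scalar (Fin m) (↑s⁻¹ : R)) :=
        (Matrix.scalar_commute _ (fun r => Commute.all _ r) a).symm
      have h2 := hss.mul_right h1
      rwa [← mul_assoc, ← map_mul, ← hs, Units.inv_mul, map_one, one_mul] at h2
    intro x
    obtain ⟨p, rfl⟩ := Ideal.Quotient.mk_surjective x
    have hC : ∀ r, Commute a (Φ (Ideal.Quotient.mk P (Polynomial.C r))) := fun r => by
      show Commute a (ι.mapMatrix (Polynomial.aeval D (Polynomial.C r)))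
      rw [Polynomial.aeval_C, show ι.mapMatrix (algebraMap A _ r) = Matrix.scalar (Fin m) (ι r) by
        ext i j; by_cases h : i = j <;> simp [h, Matrix.algebraMap_matrix_apply, Matrix.scalar_apply]]
      exact (Matrix.scalar_commute _ (fun r => Commute.all _ r) a).symm
    induction p using Polynomial.induction_on with
    | C r => exact hC r
    | add p q hp hq => rw [map_add, map_add]; exact hp.add_right hq
    | monomial n r h =>
      rw [pow_succ, ← mul_assoc, map_mul, map_mul]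
      exact h.mul_right hX
  refine ⟨a + (1 - (a + a)) * Φ u, Φ u, ?_, ?_, rfl⟩
  · have e4 : Φ (γ * 4 + 1) = (a * a - a) * 4 + 1 := by rw [map_add, map_mul, hΦγ, map_one, map_ofNat]
    have e := congrArg Φ heq
    rw [map_add, map_mul, e4, hΦγ, map_sub, map_pow, map_zero] at e
    obtain ⟨U, hU⟩ : ∃ U, U = Φ u := ⟨_, rfl⟩
    rw [← hU] at e ⊢
    have h1 : U * a = a * U := by rw [hU]; exact (hcomm u).eq.symm
    have h2 : ∀ x, U * (a * x) = a * (U * x) := fun x => by rw [← mul_assoc, h1, mul_assoc]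
    rw [← sub_eq_zero, ← e, ← sub_eq_zero]
    noncomm_ring
    simp [h1, h2]
  · intro i j
    refine (lev_nat_iff t ι ht).2 ⟨θ (Ideal.Quotient.mk P Polynomial.X * ↑v⁻¹ * ↑v'⁻¹) i j, ?_⟩
    rw [huT, map_mul, hΦT]
    show (Matrix.scalar (Fin m) (ι (t ^ k)) *
      (θ (Ideal.Quotient.mk P Polynomial.X * ↑v⁻¹ * ↑v'⁻¹)).map ι) i j = _
    simp [Matrix.scalar_apply, Matrix.diagonal_mul, -map_mul]
    rw [map_mul ι, map_pow]

end Groth.Agent.NonAbLib.LevelNewton
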