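import Groth.Agent.NonAbLib.LevelNewton.Smooth
import Groth.Agent.NonAbLib.TorsorSch
import Groth.Agent.SchTorsor.Props

/-!
# Torsors under affine smooth groups over `A[1/t]` with a point over `A'[1/t]`
-/

universe u

open CategoryTheory MonoidalCategory CartesianMonoidalCategory MonObj GrpObj AlgebraicGeometry

namespace Groth.Agent.NonAbLib.LevelNewton

/-- An affine smooth torsor over `A[1/t]` with a point over `A'[1/t]` has a point over `A[1/t]`. -/
theorem hasSectionOver_torsor {A A' R R' : Type u} [CommRing A] [CommRing A'] [CommRing R] [CommRing R']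
    (t : A) [HenselianRing A (Ideal.span {t})] (φ : A →+* A')
    (hinj : ∀ (m : ℕ) a, φ t ^ m ∣ φ a → t ^ m ∣ a) (hsurj : ∀ (m : ℕ) a', ∃ a, φ t ^ m ∣ a' - φ a)
    [Algebra A R] [IsLocalization.Away t R] [Algebra A' R'] [IsLocalization.Away (φ t) R']
    (χ : R →+* R') (hχ : χ.comp (algebraMap A R) = (algebraMap A' R').comp φ)
    {G P : Over (Spec (CommRingCat.of R))} [GrpObj G] [IsAffine G.left] [Smooth G.hom] (a : AlgGrp.Action G P)
    (hP : NonAbH1.IsTorsorFor Scheme.fppfPrecoverage a)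
    (hsec : NonAbH1.HasSectionOver P (Spec.map (CommRingCat.ofHom χ))) :
    NonAbH1.HasSectionOver P (𝟙 (Spec (CommRingCat.of R))) := by
  have hP' := torsor_mono fppf_le_fpqc hP
  have := EtFound.fpqc_isAffineHom.{u}
  have : IsAffineHom G.hom := inferInstance
  have : IsAffineHom P.hom := SchTorsor.torsor_property @IsAffineHom hP' inferInstance
  have : IsAffine P.left := isAffine_of_isAffineHom P.hom
  have hsm : Smooth P.hom := SchTorsor.torsor_property @Smooth hP' ‹_›
  obtain ⟨s, hs⟩ := hsec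
  obtain ⟨ψ, hψ⟩ : ∃ ψ : CommRingCat.of R ⟶ Γ(P.left, ⊤), P.left.isoSpec.inv ≫ P.hom = Spec.map ψ :=
    ⟨_, (Spec.map_preimage _).symm⟩
  let _ : Algebra R Γ(P.left, ⊤) := ψ.hom.toAlgebra
  have hψs : RingHom.Smooth ψ.hom := (HasRingHomProperty.Spec_iff (P := @Smooth)).1 (hψ ▸ inferInstance)
  have : Algebra.Smooth R Γ(P.left, ⊤) := hψs
  have hβ : ψ ≫ Spec.preimage (s ≫ P.left.isoSpec.hom) = CommRingCat.ofHom χ := Spec.map_injective (by
    rw [Spec.map_comp, Spec.map_preimage, ← hψ, Category.assoc, Iso.hom_inv_id_assoc, hs])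
  obtain ⟨ρ⟩ := exists_algHom t φ hinj hsurj χ hχ (B := Γ(P.left, ⊤))
    (Spec.preimage (s ≫ P.left.isoSpec.hom)).hom (congrArg CommRingCat.Hom.hom hβ)
  refine ⟨Spec.map (CommRingCat.ofHom ρ.toRingHom) ≫ P.left.isoSpec.inv, ?_⟩
  rw [Category.assoc, hψ, ← Spec.map_comp,
    show ψ ≫ CommRingCat.ofHom ρ.toRingHom = 𝟙 _ from CommRingCat.hom_ext ρ.comp_algebraMap, Spec.map_id]

end Groth.Agent.NonAbLib.LevelNewton
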